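import Groth.Agent.QCTrace.Basic
import Groth.Agent.DCohBridge.PerfRetract

/-!
# The trace splits when the rank is invertible
-/

set_option autoImplicit false

noncomputable section

universe u

open CategoryTheory CategoryTheory.Limits AlgebraicGeometry TopologicalSpace Opposite
open Groth.Agent.QCohBase Groth.Agent.FrameHom

namespace Groth.Agent.QCTrace

variable {X : Scheme.{u}}

theorem exists_basis_rank {F : X.Modules} {d : ℕ} (hF : FlatMod.IsFinLocFreeOfRank d F) (x : X) :
    ∃ U : X.Opens, x ∈ U ∧ ∃ e : Fin d → Γ(F, U), IsBasisOn F e := by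
  obtain ⟨U, hx, ⟨t⟩⟩ := hF x
  exact ⟨U, hx, exists_isBasisOn_of_triv t⟩

theorem isFinLocFree_of_rank' {F : X.Modules} {d : ℕ} (hF : FlatMod.IsFinLocFreeOfRank d F) :
    FlatMod.IsFinLocFree F := fun x =>
  let ⟨U, hx, ht⟩ := hF x
  ⟨U, d, hx, ht⟩

variable {A : RelSpec.QCAlg X} {τ : A.toModule ⟶ Coh.structureModule X}

/-- a trace is the algebra trace wherever there is a basis -/
theorem app_eq_tr (hA : FlatMod.IsFinLocFree A.toModule) (hτ : FinCov.IsTrace A τ)
    {U : X.Opens} {n : ℕ} {e : Fin n → Γ(A.toModule, U)} (he : IsBasisOn A.toModule e)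
    (T : X.Opens) (h : T ≤ U) (a : Γ(A.toModule, T)) : τ.app T a = tr A T a := by
  refine eq_of_iSup_le (Coh.structureModule X)
    (fun V : {V : X.Opens // IsAffineOpen V ∧ V ≤ T} => V.1) (fun V => V.2.2)
    (fun x hx => ?_) _ _ fun V => ?_
  · obtain ⟨_, ⟨W, hW, rfl⟩, hxW, hWT⟩ :=
      X.isBasis_affineOpens.exists_subset_of_mem_open (show x ∈ (T : Set X) from hx) T.isOpen
    exact Opens.mem_iSup.2 ⟨⟨W, hW, hWT⟩, hxW⟩
  · refine (GenLocus.app_mres τ _ a).trans ?_
    show _ = ores V.2.2 (tr A T a)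
    rw [← mtr_eq_tr he T h, mtr_res he h V.2.2, mtr_eq_tr he]
    letI : Algebra Γ(X, V.1) (A.presheaf.obj (op V.1)) := (A.str.app (op V.1)).hom.toAlgebra
    have hb := (he V.1 (V.2.2.trans h))
    let eqv : Γ(A.toModule, V.1) ≃ₗ[Γ(X, V.1)] A.presheaf.obj (op V.1) :=
      { toFun := fun x => x, invFun := fun x => x, map_add' := fun _ _ => rfl,
        map_smul' := fun _ _ => rfl }
    let b : Module.Basis (Fin n) Γ(X, V.1) (A.presheaf.obj (op V.1)) :=
      (Module.Basis.ofEquivFun (LinearEquiv.ofBijective (he.coord V.1 (V.2.2.trans h))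
        ⟨fun x y hxy => (he.comb_coord _ _ x).symm.trans
          ((congrArg (comb A.toModule e (V.2.2.trans h)) hxy).trans (he.comb_coord _ _ y)),
         fun r => ⟨comb A.toModule e (V.2.2.trans h) r, hb.1 (he.comb_coord _ _ _)⟩⟩)).map eqv
    exact hτ V.1 V.2.1 (Module.Free.of_basis b) (Module.Finite.of_basis b) _

/-- the trace of a function is `d` times it -/
theorem app_str {d : ℕ} (hA : FlatMod.IsFinLocFreeOfRank d A.toModule) (hτ : FinCov.IsTrace A τ)
    (T : X.Opens) (f : Γ(X, T)) :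
    τ.app T ((FinCov.strMod A).app T f) = ((d : Γ(X, T)) * f : Γ(X, T)) := by
  refine eq_of_iSup_le (Coh.structureModule X)
    (fun V : {V : X.Opens // V ≤ T ∧ ∃ e : Fin d → Γ(A.toModule, V), IsBasisOn A.toModule e} => V.1)
    (fun V => V.2.1) (fun x hx => ?_) _ _ fun V => ?_
  · obtain ⟨U, hxU, e, he⟩ := exists_basis_rank hA x
    exact Opens.mem_iSup.2 ⟨⟨T ⊓ U, inf_le_left, _, he.res inf_le_right⟩, hx, hxU⟩
  · obtain ⟨e, he⟩ := V.2.2
    refine (GenLocus.app_mres τ _ _).trans ?_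
    refine (congrArg (τ.app V.1).hom (GenLocus.app_mres (FinCov.strMod A) V.2.1 f)).trans ?_
    refine (app_eq_tr (isFinLocFree_of_rank' hA) hτ he V.1 le_rfl _).trans ?_
    show _ = ores V.2.1 ((d : Γ(X, T)) * f)
    rw [map_mul, map_natCast]
    letI : Algebra Γ(X, V.1) (A.presheaf.obj (op V.1)) := (A.str.app (op V.1)).hom.toAlgebra
    let eqv : Γ(A.toModule, V.1) ≃ₗ[Γ(X, V.1)] A.presheaf.obj (op V.1) :=
      { toFun := fun x => x, invFun := fun x => x, map_add' := fun _ _ => rfl,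
        map_smul' := fun _ _ => rfl }
    let b : Module.Basis (Fin d) Γ(X, V.1) (A.presheaf.obj (op V.1)) :=
      (Module.Basis.ofEquivFun (LinearEquiv.ofBijective (he.coord V.1 le_rfl)
        ⟨fun x y hxy => (he.comb_coord _ _ x).symm.trans
          ((congrArg (comb A.toModule e le_rfl) hxy).trans (he.comb_coord _ _ y)),
         fun r => ⟨comb A.toModule e le_rfl r, (he V.1 le_rfl).1 (he.comb_coord _ _ _)⟩⟩)).map eqv
    refine (Algebra.trace_algebraMap_of_basis b (ores V.2.1 f)).trans ?_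
    rw [Fintype.card_fin, nsmul_eq_mul]

/-- multiplication by a global function -/
def scal (c : Γ(X, (⊤ : X.Opens))) : Coh.structureModule X ⟶ Coh.structureModule X :=
  GenLocus.homOfSection (Coh.structureModule X) c

theorem scal_app (c : Γ(X, (⊤ : X.Opens))) (T : X.Opens) (f : Γ(X, T)) :
    (scal c).app T f = (f * ores (le_top : T ≤ ⊤) c : Γ(X, T)) := by
  refine (GenLocus.app_eq_smul (scal c) T f).trans ?_
  exact congrArg (f * ·) (GenLocus.sect_homOfSection (Coh.structureModule X) c T)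

variable {d : ℕ} (hA : FlatMod.IsFinLocFreeOfRank d A.toModule) (hτ : FinCov.IsTrace A τ)
  (hd : IsUnit ((d : Γ(X, ⊤))))

/-- the section `d⁻¹` of the trace -/
def section' : Coh.structureModule X ⟶ A.toModule :=
  scal (↑hd.unit⁻¹ : Γ(X, (⊤ : X.Opens))) ≫ FinCov.strMod A

include hA hτ in
theorem section'_comp : section' (A := A) hd ≫ τ = 𝟙 _ := by
  ext T f
  show τ.app T ((FinCov.strMod A).app T ((scal _).app T f)) = f
  refine (congrArg (fun z => τ.app T ((FinCov.strMod A).app T z)) (scal_app _ T f)).trans ?_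
  refine (app_str hA hτ T _).trans ?_
  show ((d : Γ(X, T)) * ((show Γ(X, T) from f) * _) : Γ(X, T)) = (show Γ(X, T) from f)
  rw [mul_left_comm, ← map_natCast (ores (le_top : T ≤ ⊤)), ← map_mul,
    IsUnit.mul_val_inv, map_one, mul_one]

include hA hτ hd in
theorem isSplitEpi : IsSplitEpi τ :=
  IsSplitEpi.mk' ⟨section' (A := A) hd, section'_comp hA hτ hd⟩

/-- the projection to the kernel of the trace -/
def proj : A.toModule ⟶ kernel τ :=
  kernel.lift τ (𝟙 _ - τ ≫ section' (A := A) hd) (by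
    rw [Preadditive.sub_comp, Category.assoc, section'_comp hA hτ hd]; simp)

theorem proj_ι : proj hA hτ hd ≫ kernel.ι τ = 𝟙 _ - τ ≫ section' (A := A) hd := kernel.lift_ι _ _ _

theorem ι_proj : kernel.ι τ ≫ proj hA hτ hd = 𝟙 _ := by
  apply Fork.IsLimit.hom_ext (kernelIsKernel τ)
  change (kernel.ι τ ≫ proj hA hτ hd) ≫ kernel.ι τ = 𝟙 _ ≫ kernel.ι τ
  rw [Category.assoc, proj_ι, Preadditive.comp_sub, Category.comp_id, kernel.condition_assoc, zero_comp,
    sub_zero, Category.id_comp]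

theorem section'_proj : section' (A := A) hd ≫ proj hA hτ hd = 0 := by
  apply Fork.IsLimit.hom_ext (kernelIsKernel τ)
  change (section' (A := A) hd ≫ proj hA hτ hd) ≫ kernel.ι τ = (0 : _ ⟶ kernel τ) ≫ kernel.ι τ
  rw [Category.assoc, proj_ι, Preadditive.comp_sub, Category.comp_id, zero_comp,
    ← Category.assoc (section' hd) τ, section'_comp hA hτ hd, Category.id_comp, sub_self]

/-- sections of `A` split -/
def splitEquiv (T : X.Opens) : Γ(A.toModule, T) ≃ₗ[Γ(X, T)] Γ(kernel τ, T) × Γ(X, T) where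
  toFun a := ((proj hA hτ hd).app T a, τ.app T a)
  map_add' a b := Prod.ext (map_add _ a b) (map_add _ a b)
  map_smul' r a := Prod.ext (Scheme.Modules.Hom.app_smul _ r a) (Scheme.Modules.Hom.app_smul τ r a)
  invFun p := (kernel.ι τ).app T p.1 + (section' (A := A) hd).app T p.2
  left_inv a := by
    have h : proj hA hτ hd ≫ kernel.ι τ + τ ≫ section' (A := A) hd = 𝟙 _ := by
      rw [proj_ι, sub_add_cancel]
    exact congr(($h).app T a)
  right_inv p := by
    have e1 := congr(($(ι_proj hA hτ hd)).app T p.1)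
    have e2 := congr(($(section'_proj hA hτ hd)).app T p.2)
    have e3 := congr(($(kernel.condition τ)).app T p.1)
    have e4 := congr(($(section'_comp hA hτ hd)).app T p.2)
    refine Prod.ext ?_ ?_
    · exact (map_add ((proj hA hτ hd).app T).hom _ _).trans ((congr($e1 + $e2)).trans (add_zero _))
    · exact (map_add (τ.app T).hom _ _).trans ((congr($e3 + $e4)).trans (zero_add _))

include hA hτ hd in
theorem rank_kernel : FlatMod.IsFinLocFreeOfRank (d - 1) (kernel τ) := by
  intro x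
  obtain ⟨U, n, hxU, ⟨t⟩⟩ := DCohBridge.isFinLocFree_retract (isFinLocFree_of_rank' hA) (kernel.ι τ)
    (proj hA hτ hd) (ι_proj hA hτ hd) x
  obtain ⟨U', hxU', e, he⟩ := exists_basis_rank hA x
  obtain ⟨e', he'⟩ := exists_isBasisOn_of_triv t
  let V := U ⊓ U'
  haveI : Nontrivial Γ(X, V) := by
    haveI : Nonempty V := ⟨⟨x, hxU, hxU'⟩⟩
    exact (X.presheaf.germ V x ⟨hxU, hxU'⟩).hom.domain_nontrivial
  let mk : ∀ {F : X.Modules} {W : X.Opens} {k : ℕ} {b : Fin k → Γ(F, W)} (hb : IsBasisOn F b)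
      (h : V ≤ W), Γ(F, V) ≃ₗ[Γ(X, V)] (Fin k → Γ(X, V)) := fun {F W k b} hb h =>
    LinearEquiv.ofBijective (hb.coord V h)
      ⟨fun x y hxy => (hb.comb_coord _ _ x).symm.trans
        ((congrArg (comb F b h) hxy).trans (hb.comb_coord _ _ y)),
       fun r => ⟨comb F b h r, (hb V h).1 (hb.comb_coord _ _ _)⟩⟩
  have key := (((mk he' inf_le_left).symm.prodCongr (LinearEquiv.refl Γ(X, V) Γ(X, V))).trans
    ((splitEquiv hA hτ hd V).symm.trans (mk he inf_le_right))).finrank_eq
  rw [Module.finrank_prod, Module.finrank_fin_fun, Module.finrank_fin_fun, Module.finrank_self] at key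
  have : n = d - 1 := by omega
  subst this
  exact ⟨U, hxU, ⟨t⟩⟩

end Groth.Agent.QCTrace
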