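import Groth.Agent.FrameHom.Basic
import Groth.Agent.FlatOverBC.Free
import Groth.Agent.FinLocFreeSections.Basic
import Groth.Prelude.Def_FinCov

/-!
# The trace of a finite locally free algebra
-/

set_option autoImplicit false

noncomputable section

universe u

open CategoryTheory CategoryTheory.Limits AlgebraicGeometry TopologicalSpace Opposite
open Groth.Agent.QCohBase Groth.Agent.FrameHom

namespace Groth.Agent.QCTrace

variable {X : Scheme.{u}} (A : RelSpec.QCAlg X)

/-- the algebra trace of a section -/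
def tr (T : X.Opens) (a : Γ(A.toModule, T)) : Γ(X, T) :=
  letI : Algebra Γ(X, T) (A.presheaf.obj (op T)) := (A.str.app (op T)).hom.toAlgebra
  Algebra.trace Γ(X, T) (A.presheaf.obj (op T)) (FinCov.toSec A a)

variable {A} {U : X.Opens} {n : ℕ} {e : Fin n → Γ(A.toModule, U)}

/-- the matrix trace of multiplication in the basis `e` -/
def mtr (he : IsBasisOn A.toModule e) (T : X.Opens) (h : T ≤ U) (a : Γ(A.toModule, T)) : Γ(X, T) :=
  ∑ k, he.coord T h
    ((FinCov.toSec A a * FinCov.toSec A (mres A.toModule h (e k)) : A.presheaf.obj (op T)) :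
      Γ(A.toModule, T)) k

theorem mtr_eq_tr (he : IsBasisOn A.toModule e) (T : X.Opens) (h : T ≤ U) (a : Γ(A.toModule, T)) :
    mtr he T h a = tr A T a := by
  classical
  letI : Algebra Γ(X, T) (A.presheaf.obj (op T)) := (A.str.app (op T)).hom.toAlgebra
  let l : Γ(A.toModule, T) →ₗ[Γ(X, T)] (Fin n → Γ(X, T)) := he.coord T h
  let l' : (A.presheaf.obj (op T)) →ₗ[Γ(X, T)] (Fin n → Γ(X, T)) :=
    { toFun := fun x => l x
      map_add' := fun x y => map_add l (show Γ(A.toModule, T) from x) y
      map_smul' := fun r x => map_smul l r (show Γ(A.toModule, T) from x) }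
  have hb : Function.Bijective l' := by
    refine ⟨fun x y hxy => ?_, fun r => ⟨comb A.toModule e h r, ?_⟩⟩
    · exact (he.comb_coord T h x).symm.trans
        ((congrArg (comb A.toModule e h) hxy).trans (he.comb_coord T h y))
    · exact (he T h).1 (he.comb_coord T h _)
  let b : Module.Basis (Fin n) Γ(X, T) (A.presheaf.obj (op T)) :=
    Module.Basis.ofEquivFun (LinearEquiv.ofBijective l' hb)
  have hbk : ∀ k, b k = FinCov.toSec A (mres A.toModule h (e k)) := fun k => by
    have hs : l' (FinCov.toSec A (mres A.toModule h (e k))) = Pi.single k (1 : Γ(X, T)) := by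
      refine (he T h).1 ?_
      refine (he.comb_coord T h _).trans ?_
      simp [comb, Pi.single_apply, ite_smul]
    refine Module.Basis.apply_eq_iff.2 (Finsupp.ext fun j => ?_)
    refine (Module.Basis.ofEquivFun_repr_apply _ _ _).trans ?_
    refine (congrFun hs j).trans ?_
    simp [Finsupp.single_apply, Pi.single_apply, eq_comm]
  rw [tr, Algebra.trace_eq_matrix_trace b, Matrix.trace, mtr]
  refine Finset.sum_congr rfl fun k _ => ?_
  rw [Matrix.diag_apply, Algebra.leftMulMatrix_eq_repr_mul, hbk]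
  exact (Module.Basis.ofEquivFun_repr_apply _ _ _).symm

theorem mres_toModule_mul {T T' : X.Opens} (h : T' ≤ T) (x y : A.presheaf.obj (op T)) :
    mres A.toModule h ((x * y : A.presheaf.obj (op T)) : Γ(A.toModule, T)) =
      (FinCov.toSec A (mres A.toModule h x) * FinCov.toSec A (mres A.toModule h y) :
        A.presheaf.obj (op T')) :=
  map_mul (A.presheaf.map (homOfLE h).op).hom x y

theorem mtr_res (he : IsBasisOn A.toModule e) {T T' : X.Opens} (h : T ≤ U) (h' : T' ≤ T)
    (a : Γ(A.toModule, T)) :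
    ores h' (mtr he T h a) = mtr he T' (h'.trans h) (mres A.toModule h' a) := by
  simp only [mtr, map_sum]
  refine Finset.sum_congr rfl fun k _ => ?_
  have hc := congrFun (he.coord_mres h h'
    ((FinCov.toSec A a * FinCov.toSec A (mres A.toModule h (e k)) : A.presheaf.obj (op T)) :
      Γ(A.toModule, T))) k
  refine hc.symm.trans (congrArg (fun z => he.coord T' (h'.trans h) z k) ?_)
  refine (mres_toModule_mul h' _ _).trans ?_
  exact congrArg (fun z : Γ(A.toModule, T') => FinCov.toSec A (mres A.toModule h' a) * FinCov.toSec A z)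
    (mres_mres A.toModule h h' (e k))

/-- the trace below an open with a basis -/
def locHom (he : IsBasisOn A.toModule e) : LocHom A.toModule (Coh.structureModule X) U where
  app T h :=
    { toFun := fun a => mtr he T h a
      map_add' := fun a c => by
        rw [mtr_eq_tr, mtr_eq_tr, mtr_eq_tr, tr]
        letI : Algebra Γ(X, T) (A.presheaf.obj (op T)) := (A.str.app (op T)).hom.toAlgebra
        exact map_add (Algebra.trace Γ(X, T) (A.presheaf.obj (op T))) (FinCov.toSec A a) (FinCov.toSec A c)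
      map_smul' := fun r a => by
        rw [mtr_eq_tr, mtr_eq_tr, tr]
        letI : Algebra Γ(X, T) (A.presheaf.obj (op T)) := (A.str.app (op T)).hom.toAlgebra
        exact map_smul (Algebra.trace Γ(X, T) (A.presheaf.obj (op T))) r (FinCov.toSec A a) }
  nat {T T'} h h' a := mtr_res he h h' a

variable (A)

theorem exists_basis (hA : FlatMod.IsFinLocFree A.toModule) (x : X) :
    ∃ U : X.Opens, x ∈ U ∧ ∃ (n : ℕ) (e : Fin n → Γ(A.toModule, U)), IsBasisOn A.toModule e := by
  obtain ⟨U, n, hx, ⟨t⟩⟩ := hA x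
  exact ⟨U, hx, n, exists_isBasisOn_of_triv t⟩

theorem existsUnique_isTrace (hA : FlatMod.IsFinLocFree A.toModule) :
    ∃! τ : A.toModule ⟶ Coh.structureModule X, FinCov.IsTrace A τ := by
  haveI : A.toModule.IsQuasicoherent := (TensorMod.isCoh_of_isFinLocFree hA).1
  choose U hU n e he using exists_basis A hA
  obtain ⟨τ, hτ⟩ := exists_glue U (fun x _ => Opens.mem_iSup.2 ⟨x, hU x⟩) (fun i => locHom (he i))
    (fun i j T hi hj a => (mtr_eq_tr (he i) T hi a).trans (mtr_eq_tr (he j) T hj a).symm)
  have hτ' : ∀ (T : X.Opens) (i : X), T ≤ U i → ∀ a, τ.app T a = tr A T a := fun T i h a =>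
    (hτ i T h a).trans (mtr_eq_tr (he i) T h a)
  have hcov : ∀ V : X.Opens, V ≤ ⨆ i, V ⊓ U i := fun V x hx =>
    Opens.mem_iSup.2 ⟨x, hx, hU x⟩
  refine ⟨τ, fun V hV => ?_, fun τ' h' => ?_⟩
  · intro hfree hfin a
    letI : Algebra Γ(X, V) (A.presheaf.obj (op V)) := (A.str.app (op V)).hom.toAlgebra
    let bV : Module.Basis (Fin (Fintype.card (Module.Free.ChooseBasisIndex Γ(X, V)
        (A.presheaf.obj (op V))))) Γ(X, V) (A.presheaf.obj (op V)) :=
      (Module.Free.chooseBasis Γ(X, V) (A.presheaf.obj (op V))).reindex (Fintype.equivFin _)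
    let eqv : Γ(A.toModule, V) ≃ₗ[Γ(X, V)] A.presheaf.obj (op V) :=
      { toFun := fun x => x, invFun := fun x => x, map_add' := fun _ _ => rfl,
        map_smul' := fun _ _ => rfl }
    obtain ⟨t⟩ := FlatOverBC.nonempty_iso_freeMod_of_basis A.toModule hV (bV.map eqv.symm)
    obtain ⟨e', he'⟩ := exists_isBasisOn_of_triv t
    show τ.app V a = tr A V a
    refine eq_of_iSup_le (Coh.structureModule X) (fun i => V ⊓ U i) (fun i => inf_le_left) (hcov V)
      _ _ fun i => ?_
    refine (GenLocus.app_mres τ _ a).trans ((hτ' _ i inf_le_right _).trans ?_)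
    refine (mtr_eq_tr he' _ inf_le_left _).symm.trans ?_
    refine (mtr_res he' le_rfl inf_le_left a).symm.trans ?_
    exact congrArg (ores (inf_le_left : V ⊓ U i ≤ V)) (mtr_eq_tr he' V le_rfl a)
  · ext T a
    refine eq_of_iSup_le (Coh.structureModule X)
      (fun V : {V : X.Opens // IsAffineOpen V ∧ V ≤ T ∧ ∃ i, V ≤ U i} => V.1) (fun V => V.2.2.1)
      (fun x hx => ?_) _ _ fun V => ?_
    · obtain ⟨_, ⟨W, hW, rfl⟩, hxW, hWU⟩ :=
        X.isBasis_affineOpens.exists_subset_of_mem_open (show x ∈ ((T ⊓ U x : X.Opens) : Set X) from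
          ⟨hx, hU x⟩) (T ⊓ U x).isOpen
      exact Opens.mem_iSup.2 ⟨⟨W, hW, le_trans hWU inf_le_left, x, le_trans hWU inf_le_right⟩, hxW⟩
    · obtain ⟨i, hi⟩ := V.2.2.2
      refine (GenLocus.app_mres τ' _ a).trans (Eq.trans ?_ (GenLocus.app_mres τ _ a).symm)
      refine Eq.trans ?_ (hτ' _ i hi _).symm
      letI : Algebra Γ(X, V.1) (A.presheaf.obj (op V.1)) := (A.str.app (op V.1)).hom.toAlgebra
      let eqv : Γ(A.toModule, V.1) ≃ₗ[Γ(X, V.1)] A.presheaf.obj (op V.1) :=
        { toFun := fun x => x, invFun := fun x => x, map_add' := fun _ _ => rfl,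
          map_smul' := fun _ _ => rfl }
      let b : Module.Basis (Fin (n i)) Γ(X, V.1) (A.presheaf.obj (op V.1)) :=
        (Module.Basis.ofEquivFun (LinearEquiv.ofBijective ((he i).coord V.1 hi)
          ⟨fun x y hxy => ((he i).comb_coord _ hi x).symm.trans
            ((congrArg (comb A.toModule (e i) hi) hxy).trans ((he i).comb_coord _ hi y)),
           fun r => ⟨comb A.toModule (e i) hi r, (he i V.1 hi).1 ((he i).comb_coord _ hi _)⟩⟩)).map eqv
      exact h' V.1 V.2.1 (Module.Free.of_basis b) (Module.Finite.of_basis b) _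

end Groth.Agent.QCTrace
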