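import Groth.Agent.QCTrace.Split
import Groth.Agent.DblAlgLib.Iso
import Groth.Agent.DblAlgLib.Pairing

/-!
# The trace of the algebra `O ⊕ L`
-/

set_option autoImplicit false
set_option backward.isDefEq.respectTransparency false
set_option backward.isDefEq.respectTransparency.types false

noncomputable section

universe u

open CategoryTheory CategoryTheory.Limits AlgebraicGeometry TopologicalSpace Opposite
open Groth.Agent.QCohBase Groth.Agent.FrameHom

namespace Groth.Agent.QCTrace

variable {X : Scheme.{u}} {L : X.Modules} {m : CohB1.tensorMod L L ⟶ Coh.structureModule X}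
  {A : RelSpec.QCAlg X} {j : L ⟶ A.toModule}

theorem strMod_comp {d : ℕ} (hA : FlatMod.IsFinLocFreeOfRank d A.toModule)
    {τ : A.toModule ⟶ Coh.structureModule X} (hτ : FinCov.IsTrace A τ) :
    FinCov.strMod A ≫ τ = d • 𝟙 (Coh.structureModule X) := by
  ext T f
  have h : ∀ n : ℕ, (n • 𝟙 (Coh.structureModule X)).app T f = n • f := fun n => by
    induction n with
    | zero => simp
    | succ n ih => rw [succ_nsmul, succ_nsmul, ← ih]; rfl
  refine ((app_str hA hτ T f).trans ?_).trans (h d).symm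
  exact (nsmul_eq_mul d (show Γ(X, T) from f)).symm

theorem trace_incl (hL : PicF.IsInvertible L) (h : FinCov.IsDblAlg L m A j)
    {τ : A.toModule ⟶ Coh.structureModule X} (hτ : FinCov.IsTrace A τ)
    (U : X.Opens) (l : Γ(L, U)) : τ.app U (j.app U l) = 0 := by
  have hA := DblAlgLib.rank_two hL h
  refine eq_of_iSup_le (Coh.structureModule X)
    (fun V : {V : X.Opens // V ≤ U ∧ ∃ e : Γ(L, V), GenLocus.IsFrame L e} => V.1)
    (fun V => V.2.1) (fun x hx => ?_) _ _ fun V => ?_
  · obtain ⟨V, -, hxV, hVU, he⟩ := GenLocus.exists_isFrame hL hx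
    exact Opens.mem_iSup.2 ⟨⟨V, hVU, he⟩, hxV⟩
  · obtain ⟨e, he⟩ := V.2.2
    obtain ⟨α, hα⟩ := he.bijective.2 (mres L V.2.1 l)
    dsimp only at hα
    refine (GenLocus.app_mres τ _ _).trans (Eq.trans ?_ (map_zero (mres (Coh.structureModule X) V.2.1)).symm)
    refine (congrArg (τ.app V.1).hom ((GenLocus.app_mres j V.2.1 l).trans (congrArg (j.app V.1).hom hα.symm))).trans ?_
    let one : Γ(A.toModule, V.1) := (1 : A.presheaf.obj (op V.1))
    let e' : Fin 2 → Γ(A.toModule, V.1) := ![one, j.app V.1 e]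
    have hcomb : ∀ (W : X.Opens) (hW : W ≤ V.1) (r : Fin 2 → Γ(X, W)),
        comb A.toModule e' hW r = ((A.str.app (op W)).hom (r 0) +
          FinCov.toSec A (j.app W (r 1 • mres L hW e)) : A.presheaf.obj (op W)) := fun W hW r => by
      have h1 : (r 0 • mres A.toModule hW one : Γ(A.toModule, W)) =
          ((A.str.app (op W)).hom (r 0) : A.presheaf.obj (op W)) :=
        (congrArg (fun z : A.presheaf.obj (op W) => (A.str.app (op W)).hom (r 0) * z)
          (map_one (A.presheaf.map (homOfLE hW).op).hom)).trans (mul_one _)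
      have h2 : (r 1 • mres A.toModule hW (j.app V.1 e) : Γ(A.toModule, W)) = j.app W (r 1 • mres L hW e) := by
        rw [GenLocus.app_mres]
        exact (Scheme.Modules.Hom.app_smul j _ _).symm
      exact (Fin.sum_univ_two _).trans (congrArg₂ (· + ·) h1 h2)
    have he' : IsBasisOn A.toModule e' := fun W hW => by
      have hb : Function.Bijective fun r : Fin 2 → Γ(X, W) => ((r 0, r 1 • mres L hW e) : Γ(X, W) × Γ(L, W)) :=
        ⟨fun r r' hrr => funext fun i => by
          have e1 := congrArg Prod.fst hrr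
          have e2 := (he W hW).1 (congrArg Prod.snd hrr)
          fin_cases i
          · exact e1
          · exact e2,
         fun p => by
          obtain ⟨β, hβ⟩ := (he W hW).2 p.2
          exact ⟨![p.1, β], Prod.ext rfl hβ⟩⟩
      rw [show comb A.toModule e' hW = _ from funext (hcomb W hW)]
      exact ((h.1 W).comp hb :)
    refine (app_eq_tr (isFinLocFree_of_rank' hA) hτ he' V.1 le_rfl _).trans ?_
    refine (mtr_eq_tr he' V.1 le_rfl _).symm.trans ?_
    have hc : ∀ (x : A.presheaf.obj (op V.1)) (r : Fin 2 → Γ(X, V.1)),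
        x = (A.str.app (op V.1)).hom (r 0) + FinCov.toSec A (j.app V.1 (r 1 • e)) →
          he'.coord V.1 le_rfl x = r := fun x r hx => by
      refine (he' V.1 le_rfl).1 ((he'.comb_coord _ _ _).trans ?_)
      refine Eq.trans ?_ (hcomb V.1 le_rfl r).symm
      rw [mres_refl]
      exact hx
    rw [mtr, Fin.sum_univ_two]
    refine (congrArg₂ (fun p q : Γ(X, V.1) => p + q) (x' := 0) (y' := 0) ?_ ?_).trans (add_zero 0)
    · refine congrFun (hc _ ![0, α] ?_) 0
      rw [show ![(0 : Γ(X, V.1)), α] 0 = 0 from rfl, show ![(0 : Γ(X, V.1)), α] 1 = α from rfl,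
        map_zero, zero_add]
      rw [show mres A.toModule (le_refl V.1) (e' 0) = one from mres_refl _ _ _]
      exact mul_one _
    · refine congrFun (hc _ ![α * DblAlgLib.pr m V.1 e e, 0] ?_) 1
      rw [show ![α * DblAlgLib.pr m V.1 e e, (0 : Γ(X, V.1))] 1 = 0 from rfl, zero_smul,
        show ![α * DblAlgLib.pr m V.1 e e, (0 : Γ(X, V.1))] 0 = α * DblAlgLib.pr m V.1 e e from rfl]
      rw [show mres A.toModule (le_refl V.1) (e' 1) = j.app V.1 e from mres_refl _ _ _, map_zero,
        ← DblAlgLib.pr_smul_left]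
      exact (h.2 V.1 (α • e) e).trans (add_zero _).symm

theorem trace_eq_zero_iff (hL : PicF.IsInvertible L) (h : FinCov.IsDblAlg L m A j)
    (h2 : IsUnit (2 : Γ(X, ⊤))) {τ : A.toModule ⟶ Coh.structureModule X} (hτ : FinCov.IsTrace A τ)
    (U : X.Opens) (a : Γ(A.toModule, U)) : τ.app U a = 0 ↔ a ∈ Set.range (j.app U) := by
  refine ⟨fun ha => ?_, fun ⟨l, hl⟩ => hl ▸ trace_incl hL h hτ U l⟩
  obtain ⟨⟨s, l⟩, hsl⟩ := (h.1 U).2 a
  change (FinCov.strMod A).app U s + j.app U l = a at hsl
  have h3 : (((2 : ℕ) : Γ(X, U)) * s : Γ(X, U)) = 0 := by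
    have e1 := congrArg (τ.app U).hom hsl
    rw [map_add] at e1
    erw [app_str (DblAlgLib.rank_two hL h) hτ U s, trace_incl hL h hτ U l, ha] at e1
    exact (add_zero _).symm.trans e1
  have h4 : IsUnit (((2 : ℕ) : Γ(X, U))) := by
    rw [← map_natCast (ores (le_top : U ≤ ⊤))]
    exact (by simpa using h2 : IsUnit (((2 : ℕ) : Γ(X, (⊤ : X.Opens))))).map _
  rw [h4.mul_right_eq_zero] at h3
  subst h3
  exact ⟨l, by rw [← hsl]; simp⟩

end Groth.Agent.QCTrace
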