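import Groth.Agent.QCTrace.Split
import Groth.Agent.GenLocus.PullTensor

/-!
# Rank two algebras with `2` invertible are `O ⊕ L`
-/

set_option autoImplicit false
set_option backward.isDefEq.respectTransparency false
set_option backward.isDefEq.respectTransparency.types false

noncomputable section

universe u

open CategoryTheory CategoryTheory.Limits AlgebraicGeometry TopologicalSpace Opposite
open Groth.Agent.QCohBase Groth.Agent.FrameHom
open scoped TensorProduct MonoidalCategory

namespace Groth.Agent.QCTrace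

theorem matrix_two {R : Type*} [CommRing R] (M N : Matrix (Fin 2) (Fin 2) R) (hM : M.trace = 0)
    (hN : N.trace = 0) (hc : M * N = N * M) :
    (2 : R) • (M * N) = (M * N).trace • (1 : Matrix (Fin 2) (Fin 2) R) := by
  rw [Matrix.trace_fin_two] at hM hN
  have h00 := congrFun (congrFun hc 0) 0
  have h01 := congrFun (congrFun hc 0) 1
  have h10 := congrFun (congrFun hc 1) 0
  have hM' : M 1 1 = -M 0 0 := by linear_combination hM
  have hN' : N 1 1 = -N 0 0 := by linear_combination hN
  simp only [Matrix.mul_apply, Fin.sum_univ_two, hM', hN'] at h00 h01 h10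
  ext i j
  fin_cases i <;> fin_cases j <;>
    simp [Matrix.mul_apply, Fin.sum_univ_two, Matrix.trace_fin_two, hM', hN']
  · linear_combination h00
  · linear_combination h01
  · linear_combination h10
  · linear_combination -h00

theorem mul_eq_of_trace_eq_zero {R B : Type*} [CommRing R] [CommRing B] [Algebra R B]
    (b : Module.Basis (Fin 2) R B) (c : R) (hc : c * 2 = 1) {x y : B}
    (hx : Algebra.trace R B x = 0) (hy : Algebra.trace R B y = 0) :
    x * y = algebraMap R B (c * Algebra.trace R B (x * y)) := by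
  classical
  apply Algebra.leftMulMatrix_injective b
  rw [Algebra.trace_eq_matrix_trace b] at hx hy
  rw [Algebra.trace_eq_matrix_trace b, map_mul, AlgHom.commutes, Matrix.algebraMap_eq_diagonal]
  have h := matrix_two _ _ hx hy (by rw [← map_mul, ← map_mul, mul_comm])
  calc Algebra.leftMulMatrix b x * Algebra.leftMulMatrix b y
      = (c * 2) • (Algebra.leftMulMatrix b x * Algebra.leftMulMatrix b y) := by rw [hc, one_smul]
    _ = c • ((2 : R) • (Algebra.leftMulMatrix b x * Algebra.leftMulMatrix b y)) := mul_smul _ _ _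
    _ = _ := by rw [h, smul_smul, Matrix.smul_one_eq_diagonal]; rfl

variable {X : Scheme.{u}} {A : RelSpec.QCAlg X} (τ : A.toModule ⟶ Coh.structureModule X)
  (c : Γ(X, (⊤ : X.Opens)))

/-- sections of the kernel as elements of the ring -/
abbrev inA (V : X.Opens) (a : Γ(kernel τ, V)) : A.presheaf.obj (op V) :=
  FinCov.toSec A ((kernel.ι τ).app V a)

theorem str_mul_eq_smul (V : X.Opens) (r : Γ(X, V)) (x : Γ(A.toModule, V)) :
    ((r • x : Γ(A.toModule, V)) : A.presheaf.obj (op V)) =
      (A.str.app (op V)).hom r * FinCov.toSec A x := rfl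

/-- `(a, b) ↦ c τ(a b)` -/
def sq (V : X.Opens) (a b : Γ(kernel τ, V)) : Γ(X, V) :=
  ores (le_top : V ≤ ⊤) c *
    (show Γ(X, V) from τ.app V (inA τ V a * inA τ V b : A.presheaf.obj (op V)))

theorem inA_add (V : X.Opens) (a a' : Γ(kernel τ, V)) : inA τ V (a + a') = inA τ V a + inA τ V a' :=
  map_add ((kernel.ι τ).app V).hom a a'

theorem inA_smul (V : X.Opens) (r : Γ(X, V)) (a : Γ(kernel τ, V)) :
    inA τ V (r • a) = (A.str.app (op V)).hom r * inA τ V a :=
  (congrArg (FinCov.toSec A) (Scheme.Modules.Hom.app_smul (kernel.ι τ) r a)).trans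
    (str_mul_eq_smul V r _)

theorem sq_symm (V : X.Opens) (a b : Γ(kernel τ, V)) : sq τ c V a b = sq τ c V b a := by
  rw [sq, sq, mul_comm (inA τ V a)]

theorem sq_add (V : X.Opens) (a a' b : Γ(kernel τ, V)) :
    sq τ c V (a + a') b = sq τ c V a b + sq τ c V a' b := by
  rw [sq, sq, sq, inA_add, add_mul]
  exact (congrArg (ores (le_top : V ≤ ⊤) c * ·) (map_add (τ.app V).hom _ _)).trans (mul_add _ _ _)

theorem sq_smul (V : X.Opens) (r : Γ(X, V)) (a b : Γ(kernel τ, V)) :
    sq τ c V (r • a) b = r * sq τ c V a b := by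
  rw [sq, sq, inA_smul, mul_assoc]
  exact (congrArg (ores (le_top : V ≤ ⊤) c * ·) (Scheme.Modules.Hom.app_smul τ r
    (inA τ V a * inA τ V b : A.presheaf.obj (op V)))).trans (mul_left_comm _ _ _)

theorem sq_res {V W : X.Opens} (h : W ≤ V) (a b : Γ(kernel τ, V)) :
    ores h (sq τ c V a b) = sq τ c W (mres _ h a) (mres _ h b) := by
  rw [sq, sq, map_mul, ores_ores]
  refine congrArg (ores (le_top : W ≤ ⊤) c * ·) ((GenLocus.app_mres τ h _).trans ?_)
  refine congrArg (τ.app W).hom ((map_mul (A.presheaf.map (homOfLE h).op).hom _ _).trans ?_)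
  exact congrArg₂ (fun p q : A.presheaf.obj (op W) => p * q)
    (GenLocus.app_mres (kernel.ι τ) h a) (GenLocus.app_mres (kernel.ι τ) h b)

/-- on tensor products of sections -/
def sqT (V : X.Opens) : Γ(kernel τ, V) ⊗[Γ(X, V)] Γ(kernel τ, V) →+ Γ(Coh.structureModule X, V) :=
  TensorProduct.liftAddHom
    (AddMonoidHom.mk' (fun a => AddMonoidHom.mk' (fun b => (sq τ c V a b : Γ(X, V))) fun b b' => by
        rw [sq_symm, sq_add, sq_symm τ c V b, sq_symm τ c V b'])
      fun a a' => AddMonoidHom.ext fun b => sq_add τ c V a a' b)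
    fun r a b => by
      show sq τ c V (r • a) b = sq τ c V a (r • b)
      rw [sq_smul, sq_symm τ c V a, sq_symm τ c V a (r • b), sq_smul]

/-- the pairing, in presheaves -/
def sqPre : CohB1.tensorPre (kernel τ) (kernel τ) ⟶ (TensorMod.incl X).obj (Coh.structureModule X) :=
  PresheafOfModules.homMk
    { app := fun V => AddCommGrpCat.ofHom (sqT τ c V.unop)
      naturality := fun V W i => by
        ext x
        induction x using TensorProduct.induction_on with
        | zero => exact (map_zero _).trans (map_zero _).symm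
        | add x y hx hy =>
          exact (map_add _ _ _).trans ((congrArg₂ (· + ·) hx hy).trans (map_add _ _ _).symm)
        | tmul a b => exact (sq_res τ c i.unop.le a b).symm }
    (fun V r x => by
      induction x using TensorProduct.induction_on with
      | zero => exact (congrArg _ (smul_zero r)).trans ((map_zero _).trans ((smul_zero r).symm.trans
          (congrArg (r • ·) (map_zero _).symm)))
      | add x y hx hy =>
        exact (congrArg _ (smul_add r x y)).trans ((map_add _ _ _).trans
          ((congrArg₂ (· + ·) hx hy).trans ((smul_add r _ _).symm.trans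
            (congrArg (r • ·) (map_add _ _ _).symm))))
      | tmul a b => exact sq_smul τ c V.unop r a b)

/-- the pairing -/
def pairing : CohB1.tensorMod (kernel τ) (kernel τ) ⟶ Coh.structureModule X :=
  ((TensorMod.shAdj X).homEquiv _ _).symm (sqPre τ c)

theorem pairing_tmul (V : X.Opens) (a b : Γ(kernel τ, V)) :
    (pairing τ c).app V (SecTwist.tmul _ _ V a b) = (sq τ c V a b : Γ(X, V)) := by
  have h2 := Adjunction.homEquiv_unit (TensorMod.shAdj X) _ _
    (((TensorMod.shAdj X).homEquiv _ _).symm (sqPre τ c))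
  rw [Equiv.apply_symm_apply] at h2
  exact (congr(($h2).app (op V) (a ⊗ₜ[Γ(X, V)] b))).symm

variable {τ}

theorem exists_isDblAlg (hA : FlatMod.IsFinLocFreeOfRank 2 A.toModule) (hτ : FinCov.IsTrace A τ)
    (h2 : IsUnit (2 : Γ(X, ⊤))) :
    ∃ m : CohB1.tensorMod (kernel τ) (kernel τ) ⟶ Coh.structureModule X,
      FinCov.IsDblAlg (kernel τ) m A (kernel.ι τ) := by
  have hd : IsUnit (((2 : ℕ) : Γ(X, (⊤ : X.Opens)))) := by simpa using h2
  set c : Γ(X, (⊤ : X.Opens)) := ↑hd.unit⁻¹ with hcdef
  have hc : c * 2 = 1 := hd.val_inv_mul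
  refine ⟨pairing τ c, fun U => ?_, fun U l l' => ?_⟩
  · have hcU : ores (le_top : U ≤ ⊤) c * 2 = 1 := by
      rw [← map_ofNat (ores (le_top : U ≤ ⊤)) 2, ← map_mul, hc, map_one]
    let g : Γ(X, U) × Γ(kernel τ, U) → Γ(kernel τ, U) × Γ(X, U) := fun p => (p.2, 2 * p.1)
    have hg : Function.Bijective g := Function.bijective_iff_has_inverse.2
      ⟨fun p => (ores (le_top : U ≤ ⊤) c * p.2, p.1),
        fun p => Prod.ext (by show _ * (2 * p.1) = p.1; rw [← mul_assoc, hcU, one_mul]) rfl,
        fun p => Prod.ext rfl (by show 2 * (_ * p.2) = p.2; rw [← mul_assoc, mul_comm 2, hcU, one_mul])⟩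
    refine Eq.mpr (congrArg Function.Bijective (funext fun p => ?_))
      ((splitEquiv hA hτ hd U).symm.bijective.comp hg)
    show (show Γ(A.toModule, U) from (A.str.app (op U)).hom p.1) + (kernel.ι τ).app U p.2 =
      (kernel.ι τ).app U p.2 + _
    refine (add_comm _ _).trans (congrArg (((kernel.ι τ).app U p.2) + ·) ?_)
    refine congrArg (fun z => (FinCov.strMod A).app U z) (Eq.trans ?_ (scal_app _ U _).symm)
    show p.1 = 2 * p.1 * ores (le_top : U ≤ ⊤) c
    rw [mul_comm, ← mul_assoc, hcU, one_mul]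
  · refine Eq.trans ?_ (congrArg (A.str.app (op U)).hom (pairing_tmul τ c U l l')).symm
    show inA τ U l * inA τ U l' = (FinCov.strMod A).app U (sq τ c U l l' : Γ(X, U))
    refine eq_of_iSup_le A.toModule
      (fun V : {V : X.Opens // V ≤ U ∧ ∃ e : Fin 2 → Γ(A.toModule, V), IsBasisOn A.toModule e} => V.1)
      (fun V => V.2.1) (fun x hx => ?_) _ _ fun V => ?_
    · obtain ⟨U', hxU', e, he⟩ := exists_basis_rank hA x
      exact Opens.mem_iSup.2 ⟨⟨U ⊓ U', inf_le_left, _, he.res inf_le_right⟩, hx, hxU'⟩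
    · obtain ⟨e, he⟩ := V.2.2
      refine (map_mul (A.presheaf.map (homOfLE V.2.1).op).hom _ _).trans ?_
      refine Eq.trans ?_ ((congrArg (fun z => (FinCov.strMod A).app V.1 z) (sq_res τ c V.2.1 l l')).symm.trans
        (GenLocus.app_mres (FinCov.strMod A) V.2.1 _).symm)
      refine (congrArg₂ (fun p q : A.presheaf.obj (op V.1) => p * q)
        (GenLocus.app_mres (kernel.ι τ) V.2.1 l) (GenLocus.app_mres (kernel.ι τ) V.2.1 l')).trans ?_
      letI : Algebra Γ(X, V.1) (A.presheaf.obj (op V.1)) := (A.str.app (op V.1)).hom.toAlgebra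
      let eqv : Γ(A.toModule, V.1) ≃ₗ[Γ(X, V.1)] A.presheaf.obj (op V.1) :=
        { toFun := fun x => x, invFun := fun x => x, map_add' := fun _ _ => rfl,
          map_smul' := fun _ _ => rfl }
      let b : Module.Basis (Fin 2) Γ(X, V.1) (A.presheaf.obj (op V.1)) :=
        (Module.Basis.ofEquivFun (LinearEquiv.ofBijective (he.coord V.1 le_rfl)
          ⟨fun x y hxy => (he.comb_coord _ _ x).symm.trans
            ((congrArg (comb A.toModule e le_rfl) hxy).trans (he.comb_coord _ _ y)),
           fun r => ⟨comb A.toModule e le_rfl r, (he V.1 le_rfl).1 (he.comb_coord _ _ _)⟩⟩)).map eqv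
      have hz : ∀ a : Γ(kernel τ, V.1), Algebra.trace Γ(X, V.1) (A.presheaf.obj (op V.1)) (inA τ V.1 a) = 0 :=
        fun a => (app_eq_tr (isFinLocFree_of_rank' hA) hτ he V.1 le_rfl _).symm.trans
          (congr(($(kernel.condition τ)).app V.1 a))
      refine (mul_eq_of_trace_eq_zero b (ores (le_top : V.1 ≤ ⊤) c)
        (by rw [← map_ofNat (ores (le_top : V.1 ≤ ⊤)) 2, ← map_mul, hc, map_one]) (hz _) (hz _)).trans ?_
      refine congrArg (A.str.app (op V.1)).hom ?_
      exact congrArg (ores (le_top : V.1 ≤ ⊤) c * ·)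
        (app_eq_tr (isFinLocFree_of_rank' hA) hτ he V.1 le_rfl _).symm

end Groth.Agent.QCTrace
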